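import Cfsg.Agent.H981.PiSpor.J2
import Cfsg.Agent.H246.TitsInner
import Cfsg.Agent.CpAutTits.Row
import Cfsg.Agent.S1074

/-!
# S4324, sporadic rows: the Tits group, `s = 5` (helper981)

`ncs_Tits_5`: an element of order 10 has centraliser of order 10, and all automorphisms of prime order are inner.
-/

set_option autoImplicit false

namespace Cfsg.Agent.H981.PiSpor

open Subgroup Cfsg Cfsg.Agent.H216.Pi Cfsg.Agent.H209.PiSpor

universe u

/-- an element of order 10 with centraliser of order 10, from commuting elements of orders 5 and 2 -/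
theorem exists_ten_of {X : Type*} [Group X] [Finite X] {y i : X} (hy : orderOf y = 5) (hi : orderOf i = 2)
    (hc : i * y = y * i) (h : Nat.card ↥(centralizer ({y} : Set X) ⊓ centralizer ({i} : Set X)) = 10) :
    5 ∣ orderOf (y * i) ∧ Nat.card (centralizer ({y * i} : Set X)) ≤ 10 := by
  have hcm : Commute y i := hc.symm
  have h5 : y ^ 5 = 1 := by rw [← hy, pow_orderOf_eq_one]
  have h2 : i ^ 2 = 1 := by rw [← hi, pow_orderOf_eq_one]
  constructor
  · rw [hcm.orderOf_mul_eq_mul_orderOf_of_coprime (by rw [hy, hi]; norm_num), hy, hi]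
    norm_num
  · rw [← h]
    refine Nat.card_le_card_of_injective _ (inclusion_injective (?_ : centralizer ({y * i} : Set X) ≤ _))
    intro k hk
    have hk' : Commute k (y * i) := mem_centralizer_singleton_iff.1 hk
    have e5 : (y * i) ^ 5 = i := by
      rw [hcm.mul_pow, h5, one_mul, show 5 = 2 * 2 + 1 by norm_num, pow_succ, pow_mul, h2, one_pow, one_mul]
    have e6 : (y * i) ^ 6 = y := by
      rw [hcm.mul_pow, show 6 = 2 * 3 by norm_num, pow_mul i, h2, one_pow, mul_one, show 2 * 3 = 5 + 1 by norm_num,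
        pow_succ, h5, one_mul]
    refine mem_inf.2 ⟨?_, ?_⟩
    · rw [mem_centralizer_singleton_iff]
      have h6 := hk'.pow_right 6
      rw [e6] at h6
      exact h6
    · rw [mem_centralizer_singleton_iff]
      have h6 := hk'.pow_right 5
      rw [e5] at h6
      exact h6

theorem simple_equiv {X Y : Type*} [Group X] [Group Y] (h : IsSimpleGroup Y) (e : X ≃* Y) : IsSimpleGroup X :=
  e.isSimpleGroup

/-- there is an element of order divisible by 5 with centraliser of order at most 10 -/
def HasTen (X : Type*) [Group X] : Prop := ∃ g : X, 5 ∣ orderOf g ∧ Nat.card (centralizer ({g} : Set X)) ≤ 10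

theorem HasTen.congr {X : Type*} {Y : Type*} [Group X] [Group Y] (h : HasTen X) (e : X ≃* Y) : HasTen Y := by
  obtain ⟨g, hg, hc⟩ := h
  refine ⟨e g, by rwa [MulEquiv.orderOf_eq], ?_⟩
  have h2 := Cfsg.Agent.CpAutTits.Ten.card_inf_equiv e g g
  rw [inf_idem, inf_idem] at h2
  rwa [← h2] at hc

theorem hasTen_of {X : Type*} [Group X] [Finite X] (hten : ∀ y : X, orderOf y = 5 → ∀ i, orderOf i = 2 → i * y = y * i →
      Nat.card ↥(centralizer ({y} : Set X) ⊓ centralizer ({i} : Set X)) = 10) {y i : X} (hy : orderOf y = 5)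
    (hi : orderOf i = 2) (hc : i * y = y * i) : HasTen X :=
  ⟨y * i, exists_ten_of hy hi hc (hten y hy i hi hc)⟩

theorem hasTen_TT : HasTen ↥Cfsg.Agent.TitsK.TT :=
  have hfin : Finite Cfsg.Agent.FourTwo.Base.LL := by infer_instance
  hasTen_of Cfsg.Agent.CpAutTits.Ten.facts.ten Cfsg.Agent.CpAutTits.Ten.facts.order_x
    Cfsg.Agent.CpAutTits.Ten.facts.order_z Cfsg.Agent.CpAutTits.Ten.facts.comm_zx

theorem hasTen_tits {K : Type u} [Group K] (h : Lie.IsoTits K) : HasTen K := by
  obtain ⟨e⟩ := Cfsg.Agent.CpAutTits.Row.exists_equiv h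
  exact hasTen_TT.congr e.symm

/-- **the Tits group, `s = 5`** -/
theorem ncs_Tits_5 {K : Type u} [Group K] [Finite K] (h : Lie.IsoTits K) : NCs 5 K := by
  have hsi : IsSimpleGroup K := by
    obtain ⟨e⟩ := h
    exact simple_equiv Cfsg.Agent.S1074.result.2.1 e
  have hc : center K = ⊥ := Cfsg.Agent.CpAutTits.Row.center_bot (Cfsg.Agent.CpAutTits.Row.out h)
  have hK : ¬ IsMulCommutative K := by
    intro hcm
    have h1 : center K = ⊤ := by
      rw [eq_top_iff]
      intro a _
      rw [mem_center_iff]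
      intro b
      exact hcm.is_comm.comm b a
    rw [hc] at h1
    exact bot_ne_top h1
  obtain ⟨g, hg, hg10⟩ := hasTen_tits h
  have hinner : ∀ x : MulAut K, (orderOf x).Prime → x ∈ (MulAut.conj : K →* MulAut K).range := by
    intro x hx
    by_cases h2 : orderOf x = 2
    · obtain ⟨k, hk⟩ := Cfsg.Agent.H246.TitsInner.inner_iso h x (by rw [← pow_two, ← h2, pow_orderOf_eq_one])
      exact ⟨k, hk.symm⟩
    · obtain ⟨k, hk⟩ := Cfsg.Agent.CpAutTits.Row.autInner h hx h2 x rfl
      exact ⟨k, hk.symm⟩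
  refine ncs_of hc (fun p hp _ => ni_of_small hK (by norm_num) hp hg ?_)
    (fun x hx hxo => (hxo (hinner x hx)).elim) (fun x hx hxo => (hxo (hinner x (by rw [hx]; exact Nat.prime_two))).elim)
  have h1 : 11 ≤ mm 5 := mm_ge 5
  omega

end Cfsg.Agent.H981.PiSpor
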